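import Mathlib
import Groth.Agent.AlgStLib.QuotStack
import Groth.Agent.AlgStLib.QuotDescend
import Groth.Agent.CentralExt.Desc
import Groth.Agent.GrpAct.Basic
import Groth.Agent.Assoc.Bundle
import Groth.Agent.FibCatRep.Cart
import Groth.Prelude.Def_ChGrp

/-!
# Quotient stacks of balanced products

For a balanced product `Y = G ×^H Z` the category `[Y/G]` is equivalent to `[Z/H]`: a `G`-torsor with an equivariant map to
`Y` restricts to the `H`-torsor of points over `Z ⟶ Y`, `z ↦ j (1, z)`.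
-/

set_option autoImplicit false
set_option backward.isDefEq.respectTransparency false
set_option backward.isDefEq.respectTransparency.types false
set_option linter.style.haveILetI false
universe u

noncomputable section

namespace Groth.Agent.QuotBal

open CategoryTheory CategoryTheory.Limits MonoidalCategory CartesianMonoidalCategory MonObj AlgebraicGeometry
open Groth.Agent

variable {S : Scheme.{u}}

/-! ### local sections -/

lemma hasLocSec_of_isPullback {E P E' P' : Over S} {v : E ⟶ P} {v' : E' ⟶ P'} {q : E' ⟶ E} {p : P' ⟶ P}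
    (sq : IsPullback q v' v p) (h : CentralExt.HasLocSec v) : CentralExt.HasLocSec v' := by
  intro T x
  obtain ⟨R, hR, hs⟩ := h T (x ≫ p)
  refine ⟨R, hR, fun W f hf => ?_⟩
  obtain ⟨e, he⟩ := hs f hf
  exact ⟨sq.lift e (CentralExt.inc T f ≫ x) (by rw [he, Category.assoc]), sq.lift_snd _ _ _⟩

lemma hasLocSec_comp {E P Q : Over S} {v : E ⟶ P} {w : P ⟶ Q} (hv : CentralExt.HasLocSec v)
    (hw : CentralExt.HasLocSec w) : CentralExt.HasLocSec (v ≫ w) := by
  intro T x
  obtain ⟨R, hR, hs⟩ := hw T x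
  obtain ⟨I, Z, f, rfl⟩ := R.exists_eq_ofArrows
  choose e he using fun i => hs (f i) (Presieve.ofArrows.mk i)
  choose R' hR' hs' using fun i => hv (CentralExt.mem T (f i)) (e i)
  choose J W g hg using fun i => (R' i).exists_eq_ofArrows
  refine ⟨_, Precoverage.comp_mem_coverings f hR g (fun i => hg i ▸ hR' i), ?_⟩
  rintro W' k ⟨⟨i, j⟩⟩
  obtain ⟨d, hd⟩ := hs' i (g i j) (by rw [hg i]; exact ⟨j⟩)
  let ι' : CentralExt.mem T (g i j ≫ f i) ⟶ CentralExt.mem (CentralExt.mem T (f i)) (g i j) :=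
    Over.homMk (𝟙 _) (by
      show 𝟙 _ ≫ g i j ≫ f i ≫ T.hom = (g i j ≫ f i) ≫ T.hom
      rw [Category.id_comp, Category.assoc])
  refine ⟨ι' ≫ d, ?_⟩
  rw [Category.assoc, reassoc_of% hd, he]
  exact Over.OverMorphism.ext (Category.id_comp _)

lemma isLocallyTrivial_of_hasLocSec {E T : Over S} {v : E ⟶ T} (h : CentralExt.HasLocSec v) :
    NonAbH1.IsLocallyTrivialFor Scheme.fppfPrecoverage (Over.mk v.left : Over T.left) := by
  obtain ⟨R, hR, hs⟩ := h T (𝟙 T)
  refine ⟨R, hR, fun W f hf => ?_⟩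
  obtain ⟨e, he⟩ := hs f hf
  refine ⟨e.left, ?_⟩
  show e.left ≫ v.left = f
  rw [← Over.comp_left, he]
  exact Category.comp_id _

section torsor

variable {G X : Over S} [GrpObj G] {aX : AlgGrp.Action G X}

lemma hasLocSec_π (A : AlgSt.QuotObj Scheme.fppfPrecoverage G aX) : CentralExt.HasLocSec A.π :=
  CentralExt.hasLocSec_of_isLocallyTrivial _ A.loc

lemma act_π (A : AlgSt.QuotObj Scheme.fppfPrecoverage G aX) {T : Over S} (g : T ⟶ G) (p : T ⟶ A.P) :
    (lift g p ≫ A.act.act) ≫ A.π = p ≫ A.π := by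
  rw [Category.assoc, A.cart.w, lift_snd_assoc]

lemma act_φ (A : AlgSt.QuotObj Scheme.fppfPrecoverage G aX) {T : Over S} (g : T ⟶ G) (p : T ⟶ A.P) :
    (lift g p ≫ A.act.act) ≫ A.φ = lift g (p ≫ A.φ) ≫ aX.act := by
  rw [Category.assoc, A.eqv, lift_whiskerLeft_assoc]

lemma exists_div (A : AlgSt.QuotObj Scheme.fppfPrecoverage G aX) {T : Over S} (p q : T ⟶ A.P)
    (h : p ≫ A.π = q ≫ A.π) : ∃ g : T ⟶ G, lift g q ≫ A.act.act = p := by
  refine ⟨A.cart.lift p q h ≫ fst G A.P, ?_⟩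
  have e : lift (A.cart.lift p q h ≫ fst G A.P) q = A.cart.lift p q h := by
    apply CartesianMonoidalCategory.hom_ext
    · simp
    · rw [lift_snd, IsPullback.lift_snd]
  rw [e, IsPullback.lift_fst]

lemma div_unique (A : AlgSt.QuotObj Scheme.fppfPrecoverage G aX) {T : Over S} {g g' : T ⟶ G} {q : T ⟶ A.P}
    (h : lift g q ≫ A.act.act = lift g' q ≫ A.act.act) : g = g' := by
  have e : lift g q = lift g' q := A.cart.hom_ext h (by rw [lift_snd, lift_snd])
  simpa using congr($e ≫ fst G A.P)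

/-- an equivariant map of torsors over the same base is an isomorphism -/
lemma isIso_torsorMap (A B : AlgSt.QuotObj Scheme.fppfPrecoverage G aX) (f : A.base ⟶ B.base) [IsIso f]
    (t : A.P ⟶ B.P) (hπ : t ≫ B.π = A.π ≫ f) (heqv : A.act.act ≫ t = (G ◁ t) ≫ B.act.act) : IsIso t := by
  have heqv' : ∀ {T : Over S} (g : T ⟶ G) (p : T ⟶ A.P),
      (lift g p ≫ A.act.act) ≫ t = lift g (p ≫ t) ≫ B.act.act := fun g p => by
    rw [Category.assoc, heqv, lift_whiskerLeft_assoc]
  have sq := IsPullback.of_hasPullback A.π (B.π ≫ inv f)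
  have hv : CentralExt.HasLocSec (pullback.snd A.π (B.π ≫ inv f)) := hasLocSec_of_isPullback sq (hasLocSec_π A)
  have hb : pullback.snd A.π (B.π ≫ inv f) ≫ B.π = (pullback.fst A.π (B.π ≫ inv f) ≫ t) ≫ B.π := by
    rw [Category.assoc, hπ, pullback.condition_assoc, Category.assoc, IsIso.inv_hom_id, Category.comp_id]
  obtain ⟨h, hh⟩ := exists_div B _ _ hb
  obtain ⟨F, hF⟩ := hv.desc (lift h (pullback.fst A.π (B.π ≫ inv f)) ≫ A.act.act) (fun T e e' hee => by
    obtain ⟨d, hd⟩ := exists_div A (e' ≫ pullback.fst A.π (B.π ≫ inv f)) (e ≫ pullback.fst A.π (B.π ≫ inv f)) (by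
      simp only [Category.assoc, pullback.condition]
      rw [reassoc_of% hee])
    have key : ∀ u : T ⟶ pullback A.π (B.π ≫ inv f),
        lift (u ≫ h) (u ≫ pullback.fst A.π (B.π ≫ inv f) ≫ t) ≫ B.act.act = u ≫ pullback.snd A.π (B.π ≫ inv f) :=
      fun u => by rw [← GrpAct.comp_smul B.act u, hh]
    have k1 := key e
    have k2 := key e'
    rw [← hee, ← k1, ← Category.assoc e' (pullback.fst _ _), ← hd, heqv', ← GrpAct.mul_smul,
      Category.assoc e (pullback.fst _ _) t] at k2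
    have hc := div_unique B k2
    rw [GrpAct.comp_smul A.act e, GrpAct.comp_smul A.act e', ← hc, GrpAct.mul_smul, hd])
  refine ⟨F, ?_, ?_⟩
  · -- after pulling back to pairs over the base
    have hu : (𝟙 A.P) ≫ A.π = t ≫ B.π ≫ inv f := by
      rw [Category.id_comp, reassoc_of% hπ, IsIso.hom_inv_id, Category.comp_id]
    let u := sq.lift (𝟙 A.P) t hu
    have hu₁ : u ≫ pullback.fst A.π (B.π ≫ inv f) = 𝟙 A.P := sq.lift_fst _ _ _
    have hu₂ : u ≫ pullback.snd A.π (B.π ≫ inv f) = t := sq.lift_snd _ _ _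
    have h1 : lift (u ≫ h) t ≫ B.act.act = t := by
      have := congr(u ≫ $hh)
      rwa [GrpAct.comp_smul B.act u, ← Category.assoc, hu₁, Category.id_comp, hu₂] at this
    have h2 : u ≫ h = 1 := div_unique B (h1.trans (GrpAct.one_smul' B.act t).symm)
    calc t ≫ F = u ≫ pullback.snd A.π (B.π ≫ inv f) ≫ F := by rw [reassoc_of% hu₂]
      _ = 𝟙 A.P := by rw [hF, GrpAct.comp_smul A.act u, h2, hu₁, GrpAct.one_smul']
  · refine hv.cancel ?_
    rw [reassoc_of% hF, Category.comp_id, ← Category.assoc, heqv', hh]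

/-- build an isomorphism of objects over an identification of the bases -/
lemma exists_iso (A B : AlgSt.QuotObj Scheme.fppfPrecoverage G aX) (e : A.base = B.base)
    (t : A.P ⟶ B.P) (hπ : t ≫ B.π = A.π ≫ eqToHom e) (heqv : A.act.act ≫ t = (G ◁ t) ≫ B.act.act)
    (hφ : t ≫ B.φ = A.φ) :
    ∃ (i : A ≅ B), i.hom.base = eqToHom e ∧ i.hom.top = t := by
  haveI := isIso_torsorMap A B (eqToHom e) t hπ heqv
  have hπ' : inv t ≫ A.π = B.π ≫ eqToHom e.symm := by
    rw [IsIso.inv_comp_eq, reassoc_of% hπ, eqToHom_trans, eqToHom_refl, Category.comp_id]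
  have heqv' : B.act.act ≫ inv t = (G ◁ inv t) ≫ A.act.act := by
    rw [IsIso.comp_inv_eq, Category.assoc, heqv, ← MonoidalCategory.whiskerLeft_comp_assoc, IsIso.inv_hom_id,
      MonoidalCategory.whiskerLeft_id, Category.id_comp]
  refine ⟨⟨⟨eqToHom e, t, heqv, IsPullback.of_horiz_isIso ⟨hπ⟩, hφ⟩,
    ⟨eqToHom e.symm, inv t, heqv', IsPullback.of_horiz_isIso ⟨hπ'⟩, by rw [IsIso.inv_comp_eq, hφ]⟩,
    AlgSt.QuotObj.hom_ext ?_ ?_, AlgSt.QuotObj.hom_ext ?_ ?_⟩, rfl, rfl⟩
  all_goals simp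

/-- an equivariant map of torsors is cartesian -/
lemma isPullback_torsorMap (A B : AlgSt.QuotObj Scheme.fppfPrecoverage G aX) (f : A.base ⟶ B.base)
    (t : A.P ⟶ B.P) (hπ : t ≫ B.π = A.π ≫ f) (heqv : A.act.act ≫ t = (G ◁ t) ≫ B.act.act) :
    IsPullback t A.π B.π f := by
  let B' := AlgStLib.Quot.pullObj B f
  let m := AlgStLib.Quot.pullHom B f
  let t' : A.P ⟶ B'.P := m.cart.lift t A.π hπ
  have ht₁ : t' ≫ m.top = t := m.cart.lift_fst _ _ _
  have ht₂ : t' ≫ B'.π = A.π := m.cart.lift_snd _ _ _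
  have he : A.act.act ≫ t' = (G ◁ t') ≫ B'.act.act := m.cart.hom_ext
    (by rw [Category.assoc, ht₁, Category.assoc, m.eqv, ← MonoidalCategory.whiskerLeft_comp_assoc, ht₁, heqv])
    (by rw [Category.assoc, ht₂, Category.assoc, B'.cart.w, whiskerLeft_snd_assoc, ht₂, A.cart.w])
  haveI : IsIso (show A.base ⟶ B'.base from 𝟙 A.base) := IsIso.id _
  haveI := isIso_torsorMap A B' (show A.base ⟶ B'.base from 𝟙 A.base) t' (ht₂.trans (Category.comp_id _).symm) he
  exact m.cart.of_iso (asIso t').symm (Iso.refl _) (Iso.refl _) (Iso.refl _) (by simp [← ht₁]) (by simp [← ht₂]; rfl)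
    (by simp) (by simp [m, AlgStLib.Quot.pullHom])

end torsor

/-! ### balanced products -/

variable {G H Z Y : Over S} [GrpObj G] [GrpObj H] (i : H ⟶ G) [IsMonHom i]
  (aZ : AlgGrp.Action H Z) (aY : AlgGrp.Action G Y) (j : G ⊗ Z ⟶ Y)
  (hY : ChGrp.IsBalProd Scheme.fppfPrecoverage i aZ aY j)

include hY in
lemma j_eq {T : Over S} (gg g : T ⟶ G) (z : T ⟶ Z) :
    lift gg (lift g z ≫ j) ≫ aY.act = lift (gg * g) z ≫ j := by
  have h : ((NonAbH1.trivialAction G).prod (AlgGrp.Action.trivial G Z)).act ≫ j = (G ◁ j) ≫ aY.act := hY.1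
  have := congr(lift gg (lift g z) ≫ $h)
  rw [lift_whiskerLeft_assoc, ← Category.assoc, AlgGrp.Action.lift_prod_act, AlgGrp.Action.lift_trivial_act] at this
  rw [← this, Hom.mul_def]
  rfl

include hY in
lemma j_inv {T : Over S} (h : T ⟶ H) (g : T ⟶ G) (z : T ⟶ Z) :
    lift (g * (h ≫ i)⁻¹) (lift h z ≫ aZ.act) ≫ j = lift g z ≫ j := by
  rw [← ChGrp.lift_twist_act i aZ h g z, Category.assoc, hY.2.1.w, lift_snd_assoc]

include hY in
lemma j_move {T : Over S} (g : T ⟶ G) (h : T ⟶ H) (z : T ⟶ Z) :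
    lift (g * (h ≫ i)) z ≫ j = lift g (lift h z ≫ aZ.act) ≫ j := by
  have := j_inv i aZ aY j hY h (g * (h ≫ i)) z
  rw [mul_inv_cancel_right] at this
  exact this.symm

include hY in
lemma j_div {T : Over S} (g g' : T ⟶ G) (z z' : T ⟶ Z) (e : lift g z ≫ j = lift g' z' ≫ j) :
    ∃ h : T ⟶ H, g = g' * (h ≫ i)⁻¹ ∧ z = lift h z' ≫ aZ.act := by
  let l := hY.2.1.lift (lift g z) (lift g' z') e
  have h₁ : l ≫ (ChGrp.twist i aZ).act = lift g z := hY.2.1.lift_fst _ _ _
  have h₂ : l ≫ snd _ _ = lift g' z' := hY.2.1.lift_snd _ _ _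
  have hl : l = lift (l ≫ fst _ _) (lift g' z') := by
    apply CartesianMonoidalCategory.hom_ext
    · rw [lift_fst]
    · rw [lift_snd, h₂]
  rw [hl, ChGrp.lift_twist_act] at h₁
  refine ⟨l ≫ fst _ _, ?_, ?_⟩
  · simpa using (congr($h₁ ≫ fst G Z)).symm
  · simpa using (congr($h₁ ≫ snd G Z)).symm

/-- the section `z ↦ j (1, z)` -/
def jo : Z ⟶ Y := lift 1 (𝟙 Z) ≫ j

lemma comp_jo {T : Over S} (z : T ⟶ Z) : z ≫ jo j = lift 1 z ≫ j := by
  rw [jo, ← Category.assoc, comp_lift, MonObj.comp_one, Category.comp_id]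

include hY in
lemma act_jo {T : Over S} (gg : T ⟶ G) (z : T ⟶ Z) : lift gg (z ≫ jo j) ≫ aY.act = lift gg z ≫ j := by
  rw [comp_jo, j_eq i aZ aY j hY, _root_.mul_one]

section obj

variable {aY j} (A : AlgSt.QuotObj Scheme.fppfPrecoverage G aY)

/-- the total space of the reduced torsor -/
abbrev RP : Over S := pullback A.φ (jo j)

/-- the point of the torsor -/
abbrev r₁ : RP (j := j) A ⟶ A.P := pullback.fst _ _

/-- the point of `Z` -/
abbrev r₂ : RP (j := j) A ⟶ Z := pullback.snd _ _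

include hY in
lemma act_cond : (lift (fst H (RP (j := j) A) ≫ i) (snd H _ ≫ r₁ A) ≫ A.act.act) ≫ A.φ =
    (lift (fst H (RP (j := j) A)) (snd H _ ≫ r₂ A) ≫ aZ.act) ≫ jo j := by
  rw [act_φ, comp_jo, ← j_move i aZ aY j hY, _root_.one_mul, Category.assoc (snd H _) (r₁ A) A.φ,
    pullback.condition, ← Category.assoc, act_jo i aZ aY j hY]

/-- the action of `H` -/
def redAct : AlgGrp.Action H (RP (j := j) A) where
  act := pullback.lift (lift (fst H _ ≫ i) (snd H _ ≫ r₁ A) ≫ A.act.act)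
    (lift (fst H _) (snd H _ ≫ r₂ A) ≫ aZ.act) (act_cond i aZ hY A)
  one_act := by
    apply pullback.hom_ext
    · rw [Category.assoc, pullback.lift_fst, ← Category.assoc, comp_lift, whiskerRight_fst_assoc,
        whiskerRight_snd_assoc, IsMonHom.one_hom, toUnit_unique (fst _ _) (toUnit _), ← Hom.one_def,
        GrpAct.one_smul' A.act, leftUnitor_hom]
    · rw [Category.assoc, pullback.lift_snd, ← Category.assoc, comp_lift, whiskerRight_fst,
        whiskerRight_snd_assoc, toUnit_unique (fst _ _) (toUnit _), ← Hom.one_def, GrpAct.one_smul' aZ, leftUnitor_hom]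
  mul_act := by
    refine AlgGrp.Action.hom_ext_lift₃ fun T a b p => ?_
    rw [lift_whiskerRight_assoc, lift_lift_associator_hom_assoc, lift_whiskerLeft_assoc, ← Hom.mul_def]
    apply pullback.hom_ext
    · simp only [Category.assoc, pullback.lift_fst, comp_lift_assoc, lift_fst_assoc, lift_snd_assoc]
      rw [MonObj.mul_comp, GrpAct.mul_smul]
    · simp only [Category.assoc, pullback.lift_snd, comp_lift_assoc, lift_fst, lift_snd_assoc]
      rw [GrpAct.mul_smul]

lemma redAct_fst {T : Over S} (h : T ⟶ H) (p : T ⟶ RP (j := j) A) :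
    (lift h p ≫ (redAct i aZ hY A).act) ≫ r₁ A = lift (h ≫ i) (p ≫ r₁ A) ≫ A.act.act := by
  simp only [redAct, Category.assoc, pullback.lift_fst, comp_lift_assoc, lift_fst_assoc, lift_snd_assoc]

lemma redAct_snd {T : Over S} (h : T ⟶ H) (p : T ⟶ RP (j := j) A) :
    (lift h p ≫ (redAct i aZ hY A).act) ≫ r₂ A = lift h (p ≫ r₂ A) ≫ aZ.act := by
  simp only [redAct, Category.assoc, pullback.lift_snd, comp_lift_assoc, lift_fst, lift_snd_assoc]

include hY in
lemma hasLocSec_r₁_π : CentralExt.HasLocSec (r₁ (j := j) A ≫ A.π) := by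
  have hj : CentralExt.HasLocSec j := CentralExt.hasLocSec_of_isLocallyTrivial j hY.2.2
  have hq : CentralExt.HasLocSec (pullback.snd j A.φ) := hasLocSec_of_isPullback (IsPullback.of_hasPullback j A.φ) hj
  have hc := hasLocSec_comp hq (hasLocSec_π A)
  have hcond : (lift (pullback.fst j A.φ ≫ fst G Z)⁻¹ (pullback.snd j A.φ) ≫ A.act.act) ≫ A.φ =
      (pullback.fst j A.φ ≫ snd G Z) ≫ jo j := by
    rw [act_φ, ← pullback.condition, comp_jo]
    have e : pullback.fst j A.φ ≫ j = lift (pullback.fst j A.φ ≫ fst G Z) (pullback.fst j A.φ ≫ snd G Z) ≫ j := by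
      rw [← comp_lift, lift_fst_snd, Category.comp_id]
    rw [e, j_eq i aZ aY j hY, inv_mul_cancel]
  intro T x
  obtain ⟨R, hR, hs⟩ := hc T x
  refine ⟨R, hR, fun W f hf => ?_⟩
  obtain ⟨e, he⟩ := hs f hf
  refine ⟨e ≫ pullback.lift _ _ hcond, ?_⟩
  rw [Category.assoc, pullback.lift_fst_assoc, act_π, he]

variable [Mono i.left]

/-- the reduced object -/
def redObj : AlgSt.QuotObj Scheme.fppfPrecoverage H aZ where
  base := A.base
  P := RP (j := j) A
  act := redAct i aZ hY A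
  π := r₁ A ≫ A.π
  cart := by
    haveI : Mono i := (Over.forget S).mono_of_mono_map (inferInstanceAs (Mono i.left))
    have w : (redAct i aZ hY A).act ≫ r₁ A ≫ A.π = snd H _ ≫ r₁ A ≫ A.π :=
      AlgGrp.Action.hom_ext_lift₂ fun T h p => by
        rw [← Category.assoc, ← Category.assoc, redAct_fst, act_π, lift_snd_assoc, Category.assoc]
    have ex : ∀ (T : Over S) (x y : T ⟶ RP (j := j) A), x ≫ r₁ A ≫ A.π = y ≫ r₁ A ≫ A.π →
        ∃ h : T ⟶ H, lift h y ≫ (redAct i aZ hY A).act = x := by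
      intro T x y e
      obtain ⟨gg, hgg⟩ := exists_div A (x ≫ r₁ A) (y ≫ r₁ A) (by simpa only [Category.assoc] using e)
      have e2 := congr($hgg ≫ A.φ)
      rw [act_φ, Category.assoc y, pullback.condition, ← Category.assoc, act_jo i aZ aY j hY, Category.assoc x,
        pullback.condition, ← Category.assoc, comp_jo] at e2
      obtain ⟨h, h₁, h₂⟩ := j_div i aZ aY j hY _ _ _ _ e2.symm
      refine ⟨h, pullback.hom_ext ?_ ?_⟩
      · rw [redAct_fst, eq_mul_inv_iff_mul_eq, _root_.one_mul] at *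
        rw [h₁, hgg]
      · rw [redAct_snd, h₂]
    choose dv hdv using ex
    refine ⟨⟨w⟩, ⟨PullbackCone.isLimitAux' _ fun c =>
      ⟨lift (dv _ c.fst c.snd c.condition) c.snd, hdv _ _ _ c.condition, lift_snd _ _, fun {m} h₁ h₂ => ?_⟩⟩⟩
    change m ≫ (redAct i aZ hY A).act = c.fst at h₁
    change m ≫ snd H _ = c.snd at h₂
    have hm : m = lift (m ≫ fst _ _) c.snd := by
      apply CartesianMonoidalCategory.hom_ext
      · exact (lift_fst _ _).symm
      · exact h₂.trans (lift_snd _ _).symm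
    rw [hm] at h₁
    conv_lhs => rw [hm]
    congr 1
    refine (cancel_mono i).1 (div_unique A (q := c.snd ≫ r₁ A) ?_)
    rw [← redAct_fst i aZ hY, ← redAct_fst i aZ hY, h₁, hdv]
  loc := isLocallyTrivial_of_hasLocSec (hasLocSec_r₁_π i aZ hY A)
  φ := r₂ A
  eqv := AlgGrp.Action.hom_ext_lift₂ fun T h p => by
    rw [← Category.assoc, redAct_snd, lift_whiskerLeft_assoc]

end obj

end Groth.Agent.QuotBal

end
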