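import Mathlib
import Groth.Agent.QuotBal.Basic

/-!
# `[Y/G] ≅ [Z/H]` for a balanced product
-/

set_option autoImplicit false
set_option backward.isDefEq.respectTransparency false
set_option backward.isDefEq.respectTransparency.types false
set_option linter.style.haveILetI false
universe u

noncomputable section

namespace Groth.Agent.QuotBal

open CategoryTheory CategoryTheory.Limits MonoidalCategory CartesianMonoidalCategory MonObj AlgebraicGeometry
open Groth.Agent

variable {S : Scheme.{u}} {G H Z Y : Over S} [GrpObj G] [GrpObj H] (i : H ⟶ G) [IsMonHom i]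
  (aZ : AlgGrp.Action H Z) {aY : AlgGrp.Action G Y} {j : G ⊗ Z ⟶ Y}
  (hY : ChGrp.IsBalProd Scheme.fppfPrecoverage i aZ aY j) [Mono i.left]

section map

variable {A B : AlgSt.QuotObj Scheme.fppfPrecoverage G aY} (f : A ⟶ B)

/-- the map of reduced total spaces -/
def redTop : RP (j := j) A ⟶ RP (j := j) B :=
  pullback.lift (r₁ A ≫ f.top) (r₂ A) (by rw [Category.assoc, f.wφ, pullback.condition])

lemma redTop_fst : redTop (j := j) f ≫ r₁ B = r₁ A ≫ f.top := pullback.lift_fst _ _ _

lemma redTop_snd : redTop (j := j) f ≫ r₂ B = r₂ A := pullback.lift_snd _ _ _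

/-- the map of reduced objects -/
def redMap : redObj i aZ hY A ⟶ redObj i aZ hY B where
  base := f.base
  top := redTop f
  eqv := AlgGrp.Action.hom_ext_lift₂ fun T h p => by
    show lift h p ≫ (redAct i aZ hY A).act ≫ redTop f = lift h p ≫ (H ◁ redTop f) ≫ (redAct i aZ hY B).act
    rw [lift_whiskerLeft_assoc]
    apply pullback.hom_ext
    · rw [redAct_fst, Category.assoc, Category.assoc, redTop_fst, Category.assoc p, redTop_fst, ← Category.assoc,
        ← Category.assoc, redAct_fst, Category.assoc, f.eqv, lift_whiskerLeft_assoc, Category.assoc]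
    · rw [redAct_snd, Category.assoc, Category.assoc, redTop_snd, Category.assoc p, redTop_snd, ← Category.assoc,
        redAct_snd]
  cart := by
    refine isPullback_torsorMap (redObj i aZ hY A) (redObj i aZ hY B) f.base (redTop f) ?_ ?_
    · show redTop f ≫ r₁ B ≫ B.π = (r₁ A ≫ A.π) ≫ f.base
      rw [← Category.assoc, redTop_fst, Category.assoc, f.cart.w, Category.assoc]
    · refine AlgGrp.Action.hom_ext_lift₂ fun T h p => ?_
      show lift h p ≫ (redAct i aZ hY A).act ≫ redTop f = lift h p ≫ (H ◁ redTop f) ≫ (redAct i aZ hY B).act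
      rw [lift_whiskerLeft_assoc]
      apply pullback.hom_ext
      · rw [redAct_fst, Category.assoc, Category.assoc, redTop_fst, Category.assoc p, redTop_fst, ← Category.assoc,
          ← Category.assoc, redAct_fst, Category.assoc, f.eqv, lift_whiskerLeft_assoc, Category.assoc]
      · rw [redAct_snd, Category.assoc, Category.assoc, redTop_snd, Category.assoc p, redTop_snd, ← Category.assoc,
          redAct_snd]
  wφ := redTop_snd f

end map

/-- reduction of the structure group -/
def red : AlgSt.QuotSt Scheme.fppfPrecoverage G aY ⥤ᵇ AlgSt.QuotSt Scheme.fppfPrecoverage H aZ where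
  toFunctor :=
    { obj := fun A => redObj i aZ hY A
      map := fun f => redMap i aZ hY f
      map_id := fun A => AlgSt.QuotObj.hom_ext rfl (pullback.hom_ext
        (by show redTop (j := j) (𝟙 A) ≫ _ = _; rw [redTop_fst]; exact (Category.comp_id _).trans (Category.id_comp _).symm)
        (by show redTop (j := j) (𝟙 A) ≫ _ = _; rw [redTop_snd]; exact (Category.id_comp _).symm))
      map_comp := fun {A B C} f g => AlgSt.QuotObj.hom_ext rfl (pullback.hom_ext
        (by
          show redTop (j := j) (f ≫ g) ≫ r₁ C = (redTop (j := j) f ≫ redTop g) ≫ r₁ C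
          rw [redTop_fst, Category.assoc, redTop_fst, reassoc_of% (redTop_fst (j := j) f)]
          rfl)
        (by
          show redTop (j := j) (f ≫ g) ≫ r₂ C = (redTop (j := j) f ≫ redTop g) ≫ r₂ C
          rw [redTop_snd, Category.assoc, redTop_snd, redTop_snd])) }
  w := rfl

/-- the translation map `(g, q) ↦ g • q` -/
def sh (A : AlgSt.QuotObj Scheme.fppfPrecoverage G aY) : G ⊗ RP (j := j) A ⟶ A.P := (G ◁ r₁ A) ≫ A.act.act

lemma lift_sh (A : AlgSt.QuotObj Scheme.fppfPrecoverage G aY) {T : Over S} (g : T ⟶ G) (q : T ⟶ RP (j := j) A) :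
    lift g q ≫ sh A = lift g (q ≫ r₁ A) ≫ A.act.act := by
  rw [sh, lift_whiskerLeft_assoc]

include hY in
omit [Mono i.left] in
lemma hasLocSec_sh (A : AlgSt.QuotObj Scheme.fppfPrecoverage G aY) : CentralExt.HasLocSec (sh (j := j) A) := by
  intro T x
  obtain ⟨R, hR, hs⟩ := hasLocSec_r₁_π i aZ hY A T (x ≫ A.π)
  refine ⟨R, hR, fun W f hf => ?_⟩
  obtain ⟨e, he⟩ := hs f hf
  obtain ⟨g, hg⟩ := exists_div A (CentralExt.inc T f ≫ x) (e ≫ r₁ A)
    (by rw [Category.assoc, Category.assoc]; exact he.symm)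
  exact ⟨lift g e, by rw [lift_sh, hg]⟩

instance faithful_red : (red i aZ hY).toFunctor.Faithful where
  map_injective {A B} f g h := by
    have hb : f.base = g.base := congrArg (fun k : redObj i aZ hY A ⟶ redObj i aZ hY B => k.base) h
    have ht : redTop (j := j) f = redTop g := congrArg (fun k : redObj i aZ hY A ⟶ redObj i aZ hY B => k.top) h
    refine AlgSt.QuotObj.hom_ext hb ((hasLocSec_sh i aZ hY A).cancel (AlgGrp.Action.hom_ext_lift₂ fun T gg q => ?_))
    rw [← Category.assoc, ← Category.assoc, lift_sh, Category.assoc, Category.assoc, f.eqv, g.eqv,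
      lift_whiskerLeft_assoc, lift_whiskerLeft_assoc, Category.assoc, ← redTop_fst, ht, redTop_fst, Category.assoc]

instance full_red : (red i aZ hY).toFunctor.Full where
  map_surjective {A B} := fun (m : redObj i aZ hY A ⟶ redObj i aZ hY B) => by
    let mt : RP (j := j) A ⟶ RP (j := j) B := m.top
    have hmπ : mt ≫ r₁ B ≫ B.π = (r₁ A ≫ A.π) ≫ m.base := m.cart.w
    have hmφ : mt ≫ r₂ B = r₂ A := m.wφ
    have hmeqv : ∀ {T : Over S} (h : T ⟶ H) (q : T ⟶ RP (j := j) A),
        (lift h q ≫ (redAct i aZ hY A).act) ≫ mt = lift h (q ≫ mt) ≫ (redAct i aZ hY B).act := fun h q => by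
      rw [Category.assoc, show (redAct i aZ hY A).act ≫ mt = (H ◁ mt) ≫ (redAct i aZ hY B).act from m.eqv,
        lift_whiskerLeft_assoc]
    have hsh : ∀ {T : Over S} (e : T ⟶ G ⊗ RP (j := j) A),
        e ≫ sh A = lift (e ≫ fst G _) ((e ≫ snd G _) ≫ r₁ A) ≫ A.act.act := fun e => by
      rw [← lift_sh, ← comp_lift, lift_fst_snd, Category.comp_id]
    obtain ⟨t, ht⟩ := (hasLocSec_sh i aZ hY A).desc (lift (fst G _) (snd G _ ≫ mt ≫ r₁ B) ≫ B.act.act)
      (fun T e e' hee => by
        have hb : (e' ≫ snd G (RP (j := j) A)) ≫ r₁ A ≫ A.π = (e ≫ snd G _) ≫ r₁ A ≫ A.π := by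
          have := congr($hee.symm ≫ A.π)
          rw [hsh, hsh, act_π, act_π] at this
          simpa only [Category.assoc] using this
        let cart := (redObj i aZ hY A).cart
        obtain ⟨h, hh⟩ := exists_div (redObj i aZ hY A) (e' ≫ snd G _) (e ≫ snd G _) hb
        change lift h (e ≫ snd G _) ≫ (redAct i aZ hY A).act = e' ≫ snd G _ at hh
        have h1 := congr($hh ≫ r₁ A)
        rw [redAct_fst] at h1
        rw [hsh, hsh, ← h1, ← GrpAct.mul_smul] at hee
        have hg : e ≫ fst G _ = (e' ≫ fst G _) * (h ≫ i) := div_unique A hee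
        rw [GrpAct.comp_smul B.act e, GrpAct.comp_smul B.act e', hg, GrpAct.mul_smul]
        congr 2
        rw [← Category.assoc e' (snd G _), ← hh, ← Category.assoc (lift h (e ≫ snd G _) ≫ (redAct i aZ hY A).act) mt, hmeqv h (e ≫ snd G _), redAct_fst]
        simp only [Category.assoc])
    have htl : ∀ {T : Over S} (gg : T ⟶ G) (q : T ⟶ RP (j := j) A),
        (lift gg (q ≫ r₁ A) ≫ A.act.act) ≫ t = lift gg (q ≫ mt ≫ r₁ B) ≫ B.act.act := fun gg q => by
      rw [← lift_sh, Category.assoc, ht, GrpAct.comp_smul B.act]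
      simp
    have hls := hasLocSec_sh i aZ hY A
    have htπ : t ≫ B.π = A.π ≫ m.base := hls.cancel (AlgGrp.Action.hom_ext_lift₂ fun T gg q => by
      rw [← Category.assoc, ← Category.assoc, ← Category.assoc, ← Category.assoc, lift_sh, htl, act_π,
        Category.assoc, Category.assoc, hmπ, act_π, Category.assoc, Category.assoc, Category.assoc])
    have htφ : t ≫ B.φ = A.φ := hls.cancel (AlgGrp.Action.hom_ext_lift₂ fun T gg q => by
      rw [← Category.assoc, ← Category.assoc, ← Category.assoc, lift_sh, htl, act_φ, act_φ]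
      congr 2
      rw [Category.assoc, Category.assoc, pullback.condition, reassoc_of% hmφ, Category.assoc,
        pullback.condition])
    have hte : A.act.act ≫ t = (G ◁ t) ≫ B.act.act :=
      (hls.whiskerLeft G).cancel (AlgGrp.Action.hom_ext_lift₂ fun T a e => by
        rw [lift_whiskerLeft_assoc, lift_whiskerLeft_assoc, lift_whiskerLeft_assoc, hsh, ← Category.assoc,
          ← GrpAct.mul_smul, htl, htl, GrpAct.mul_smul])
    refine ⟨⟨m.base, t, hte, isPullback_torsorMap A B m.base t htπ hte, htφ⟩, AlgSt.QuotObj.hom_ext rfl ?_⟩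
    show redTop (j := j) _ = mt
    apply pullback.hom_ext
    · rw [redTop_fst]
      show r₁ A ≫ t = mt ≫ r₁ B
      calc r₁ A ≫ t = (lift 1 (𝟙 _ ≫ r₁ A) ≫ A.act.act) ≫ t := by rw [GrpAct.one_smul', Category.id_comp]
        _ = mt ≫ r₁ B := by rw [htl, GrpAct.one_smul', Category.id_comp]
    · rw [redTop_snd]
      exact hmφ.symm

section esssurj

variable [Flat H.hom] [LocallyOfFinitePresentation H.hom] [IsAffineHom H.hom] [IsAffineHom G.hom]

include hY in
theorem exists_preimage (A : AlgSt.QuotObj Scheme.fppfPrecoverage H aZ) :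
    ∃ ξ : AlgSt.QuotObj Scheme.fppfPrecoverage G aY, ∃ (h : (redObj i aZ hY ξ).base = A.base)
      (e : redObj i aZ hY ξ ≅ A), e.hom.base = eqToHom h := by
  let b : AlgGrp.Action H G := (AlgGrp.Action.invRight G).restrict i
  obtain ⟨h1, h2, h3⟩ := AlgStLib.Quot.fppf_π A
  haveI := h1
  haveI := h2
  haveI := AlgStLib.Quot.isAffineHom_π A
  obtain ⟨W, φ, ψ, hinv, hpb⟩ := Assoc.exists_bundle A.act b A.π (A.cart.map (Over.forget S)) (Z := G)
  have sq : IsPullback (fst A.P G) φ A.π ψ :=
    IsPullback.of_map (Over.forget S) (Over.OverMorphism.ext hpb.w) hpb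
  have hφ : CentralExt.HasLocSec φ := hasLocSec_of_isPullback sq (hasLocSec_π A)
  have φ_inv : ∀ {T : Over S} (h : T ⟶ H) (p : T ⟶ A.P) (g : T ⟶ G),
      lift (lift h p ≫ A.act.act) (g * (h ≫ i)⁻¹) ≫ φ = lift p g ≫ φ := fun h p g => by
    have := congr(lift h (lift p g) ≫ $hinv)
    rw [← Category.assoc, comp_lift, lift_whiskerLeft_assoc, lift_whiskerLeft_assoc, lift_fst, lift_snd,
      lift_snd_assoc, AlgGrp.Action.lift_restrict_act, AlgGrp.Action.lift_invRight_act] at this
    exact this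
  have φ_ψ : ∀ {T : Over S} (p : T ⟶ A.P) (g : T ⟶ G), (lift p g ≫ φ) ≫ ψ = p ≫ A.π := fun p g => by
    rw [Category.assoc, ← sq.w, lift_fst_assoc]
  have φ_div : ∀ {T : Over S} (e e' : T ⟶ A.P ⊗ G), e ≫ φ = e' ≫ φ → ∃ h : T ⟶ H,
      e' ≫ fst _ _ = lift h (e ≫ fst _ _) ≫ A.act.act ∧ e' ≫ snd _ _ = (e ≫ snd _ _) * (h ≫ i)⁻¹ := by
    intro T e e' hee
    obtain ⟨h, hh⟩ := exists_div A (e' ≫ fst _ _) (e ≫ fst _ _) (by
      rw [Category.assoc, Category.assoc, sq.w, reassoc_of% hee])
    refine ⟨h, hh.symm, ?_⟩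
    have he : e' = lift (lift h (e ≫ fst _ _) ≫ A.act.act) ((e ≫ snd _ _) * (h ≫ i)⁻¹) := by
      refine sq.hom_ext ?_ ?_
      · rw [lift_fst, hh]
      · rw [φ_inv, ← comp_lift, lift_fst_snd, Category.comp_id, hee]
    conv_lhs => rw [he]
    rw [lift_snd]
  -- left translations
  obtain ⟨a, ha⟩ := (hφ.whiskerLeft G).desc
    (lift (snd G (A.P ⊗ G) ≫ fst _ _) (fst G (A.P ⊗ G) * (snd G _ ≫ snd _ _)) ≫ φ) (fun T e e' hee => by
      have h1 : e ≫ fst G _ = e' ≫ fst G _ := by simpa using congr($hee ≫ fst G W)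
      have h2 : (e ≫ snd G _) ≫ φ = (e' ≫ snd G _) ≫ φ := by simpa using congr($hee ≫ snd G W)
      obtain ⟨h, hp, hg⟩ := φ_div _ _ h2
      rw [← Category.assoc, ← Category.assoc, comp_lift, comp_lift, MonObj.comp_mul, MonObj.comp_mul,
        ← Category.assoc e, ← Category.assoc e', ← Category.assoc e, ← Category.assoc e', hp, hg,
        ← _root_.mul_assoc, h1, φ_inv])
  have ha' : ∀ {T : Over S} (gg : T ⟶ G) (p : T ⟶ A.P) (g : T ⟶ G),
      lift gg (lift p g ≫ φ) ≫ a = lift p (gg * g) ≫ φ := fun gg p g => by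
    rw [← lift_whiskerLeft_assoc, ha, ← Category.assoc, comp_lift, MonObj.comp_mul, lift_snd_assoc, lift_fst,
      lift_fst, lift_snd_assoc, lift_snd]
  let act : AlgGrp.Action G W :=
    { act := a
      one_act := by
        refine (hφ.whiskerLeft _).cancel (AlgGrp.Action.hom_ext_lift₂ fun T u e => ?_)
        rw [lift_whiskerLeft_assoc, lift_whiskerRight_assoc, lift_whiskerLeft_assoc, leftUnitor_hom, lift_snd,
          ← lift_comp_fst_snd e, toUnit_unique u (toUnit T), ← Hom.one_def, ha', _root_.one_mul]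
      mul_act := by
        refine (hφ.whiskerLeft _).cancel (AlgGrp.Action.hom_ext_lift₂ fun T u e => ?_)
        rw [lift_whiskerLeft_assoc, lift_whiskerLeft_assoc, ← lift_comp_fst_snd u, ← lift_comp_fst_snd e,
          lift_whiskerRight_assoc, ← Hom.mul_def, ha', lift_lift_associator_hom_assoc, lift_whiskerLeft_assoc,
          ha', ha', _root_.mul_assoc] }
  have haψ : a ≫ ψ = snd G W ≫ ψ := by
    refine (hφ.whiskerLeft G).cancel (AlgGrp.Action.hom_ext_lift₂ fun T gg e => ?_)
    rw [← lift_comp_fst_snd e, lift_whiskerLeft_assoc, lift_whiskerLeft_assoc, ← Category.assoc, ha', φ_ψ,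
      lift_snd_assoc, φ_ψ]
  have hcart : IsPullback a (snd G W) ψ ψ := by
    let q := pullback.snd A.π (pullback.fst ψ ψ ≫ ψ)
    have hq : CentralExt.HasLocSec q := hasLocSec_of_isPullback (IsPullback.of_hasPullback _ _) (hasLocSec_π A)
    let p := pullback.fst A.π (pullback.fst ψ ψ ≫ ψ)
    have hp : p ≫ A.π = q ≫ pullback.fst ψ ψ ≫ ψ := pullback.condition
    -- coordinates of the two points
    let x := sq.lift p (q ≫ pullback.fst ψ ψ) (by rw [hp, Category.assoc])
    let y := sq.lift p (q ≫ pullback.snd ψ ψ) (by rw [hp, Category.assoc]; exact congrArg (q ≫ ·) pullback.condition)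
    obtain ⟨d, hd⟩ := hq.desc ((x ≫ snd _ _) * (y ≫ snd _ _)⁻¹) (fun T e e' hee => by
      have hx : (e ≫ x) ≫ φ = (e' ≫ x) ≫ φ := by
        simp only [x, Category.assoc, IsPullback.lift_snd]; rw [reassoc_of% hee]
      have hy : (e ≫ y) ≫ φ = (e' ≫ y) ≫ φ := by
        simp only [y, Category.assoc, IsPullback.lift_snd]; rw [reassoc_of% hee]
      obtain ⟨h, hhp, hhg⟩ := φ_div _ _ hx
      obtain ⟨h', hhp', hhg'⟩ := φ_div _ _ hy
      have hxy : ∀ u : T ⟶ pullback A.π (pullback.fst ψ ψ ≫ ψ), (u ≫ x) ≫ fst _ _ = (u ≫ y) ≫ fst _ _ := fun u => by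
        simp [x, y]
      rw [hxy, hxy, hhp'] at hhp
      have hh : h' = h := div_unique A hhp
      subst hh
      rw [MonObj.comp_mul, MonObj.comp_mul, GrpObj.comp_inv, GrpObj.comp_inv, ← Category.assoc e,
        ← Category.assoc e, ← Category.assoc e', ← Category.assoc e', hhg, hhg']
      group)
    have hfst : lift d (pullback.snd ψ ψ) ≫ a = pullback.fst ψ ψ := by
      refine hq.cancel ?_
      have hy : q ≫ pullback.snd ψ ψ = lift (y ≫ fst _ _) (y ≫ snd _ _) ≫ φ := by
        rw [lift_comp_fst_snd, IsPullback.lift_snd]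
      rw [← Category.assoc, comp_lift, hd, hy, ha', inv_mul_cancel_right,
        show y ≫ fst _ _ = x ≫ fst _ _ from (sq.lift_fst _ _ _).trans (sq.lift_fst _ _ _).symm,
        lift_comp_fst_snd, IsPullback.lift_snd]
    -- uniqueness of the coordinate
    have huniq : ∀ {T : Over S} (g g' : T ⟶ G) (w : T ⟶ W), lift g w ≫ a = lift g' w ≫ a → g = g' := by
      intro T g g' w e
      let q₀ := pullback.snd A.π (w ≫ ψ)
      have hq₀ : CentralExt.HasLocSec q₀ := hasLocSec_of_isPullback (IsPullback.of_hasPullback _ _) (hasLocSec_π A)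
      refine hq₀.cancel ?_
      let w' := sq.lift (pullback.fst A.π (w ≫ ψ)) (q₀ ≫ w) (by rw [pullback.condition, Category.assoc])
      have hw' : q₀ ≫ w = lift (w' ≫ fst _ _) (w' ≫ snd _ _) ≫ φ := by
        rw [lift_comp_fst_snd, IsPullback.lift_snd]
      have e₀ := congr(q₀ ≫ $e)
      rw [← Category.assoc, ← Category.assoc, comp_lift, comp_lift, hw', ha', ha'] at e₀
      obtain ⟨h, hh, hh'⟩ := φ_div _ _ e₀
      rw [lift_fst, lift_fst] at hh
      rw [lift_snd, lift_snd] at hh'
      have h1 : h = 1 := div_unique A (hh.symm.trans (GrpAct.one_smul' A.act _).symm)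
      rw [h1, MonObj.one_comp, inv_one, _root_.mul_one] at hh'
      exact (mul_right_cancel hh').symm
    refine ⟨⟨haψ⟩, ⟨PullbackCone.isLimitAux' _ fun c =>
      ⟨pullback.lift c.fst c.snd c.condition ≫ lift d (pullback.snd ψ ψ), ?_, ?_, fun {m} h₁ h₂ => ?_⟩⟩⟩
    · show (pullback.lift c.fst c.snd c.condition ≫ lift d (pullback.snd ψ ψ)) ≫ a = c.fst
      rw [Category.assoc, hfst, pullback.lift_fst]
    · show (pullback.lift c.fst c.snd c.condition ≫ lift d (pullback.snd ψ ψ)) ≫ snd G W = c.snd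
      rw [Category.assoc, lift_snd, pullback.lift_snd]
    · change m ≫ a = c.fst at h₁
      change m ≫ snd G W = c.snd at h₂
      have hm : m = lift (m ≫ fst G W) c.snd := by
        apply CartesianMonoidalCategory.hom_ext
        · exact (lift_fst _ _).symm
        · exact h₂.trans (lift_snd _ _).symm
      rw [hm] at h₁
      conv_lhs => rw [hm]
      show _ = pullback.lift c.fst c.snd c.condition ≫ lift d (pullback.snd ψ ψ)
      rw [comp_lift, pullback.lift_snd]
      congr 1
      refine huniq _ _ c.snd (h₁.trans ?_)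
      have := congr(pullback.lift c.fst c.snd c.condition ≫ $hfst)
      rw [← Category.assoc, comp_lift, pullback.lift_snd, pullback.lift_fst] at this
      exact this.symm
  obtain ⟨Φ, hΦ⟩ := hφ.desc (lift (snd A.P G) (fst A.P G ≫ A.φ) ≫ j) (fun T e e' hee => by
    obtain ⟨h, hp, hg⟩ := φ_div e e' hee
    rw [← Category.assoc, ← Category.assoc, comp_lift, comp_lift, ← Category.assoc e, ← Category.assoc e', hp, hg,
      act_φ, j_inv i aZ aY j hY])
  have hΦ' : ∀ {T : Over S} (p : T ⟶ A.P) (g : T ⟶ G), (lift p g ≫ φ) ≫ Φ = lift g (p ≫ A.φ) ≫ j := fun p g => by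
    rw [Category.assoc, hΦ, ← Category.assoc, comp_lift, lift_snd, lift_fst_assoc]
  let κ : A.P ⟶ W := lift (𝟙 A.P) 1 ≫ φ
  have hκψ : κ ≫ ψ = A.π := by rw [φ_ψ, Category.id_comp]
  have hκΦ : κ ≫ Φ = A.φ ≫ jo j := by rw [hΦ', Category.id_comp, comp_jo]
  have hκ : ∀ {T : Over S} (h : T ⟶ H) (p : T ⟶ A.P),
      (lift h p ≫ A.act.act) ≫ κ = lift (h ≫ i) (p ≫ κ) ≫ a := by
    intro T h p
    have hk : ∀ u : T ⟶ A.P, u ≫ κ = lift u 1 ≫ φ := fun u => by
      rw [← Category.assoc, comp_lift, Category.comp_id, MonObj.comp_one]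
    rw [hk, hk, ha', _root_.mul_one]
    have := φ_inv h p (h ≫ i)
    rw [mul_inv_cancel] at this
    exact this
  let ξ : AlgSt.QuotObj Scheme.fppfPrecoverage G aY :=
    { base := A.base
      P := W
      act := act
      π := ψ
      cart := hcart
      loc := isLocallyTrivial_of_hasLocSec (v := ψ) (by
        intro T x
        obtain ⟨R, hR, hs⟩ := hasLocSec_π A T x
        refine ⟨R, hR, fun V f hf => ?_⟩
        obtain ⟨e, he⟩ := hs f hf
        exact ⟨e ≫ κ, by rw [Category.assoc, hκψ, he]⟩)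
      φ := Φ
      eqv := (hφ.whiskerLeft G).cancel (AlgGrp.Action.hom_ext_lift₂ fun T gg e => by
        show lift gg e ≫ (G ◁ φ) ≫ a ≫ Φ = lift gg e ≫ (G ◁ φ) ≫ (G ◁ Φ) ≫ aY.act
        rw [← lift_comp_fst_snd e, lift_whiskerLeft_assoc, lift_whiskerLeft_assoc, lift_whiskerLeft_assoc,
          ← Category.assoc, ha', hΦ', hΦ', j_eq i aZ aY j hY]) }
  let t : A.P ⟶ RP (j := j) ξ := pullback.lift κ A.φ hκΦ
  obtain ⟨e, he, -⟩ := exists_iso A (redObj i aZ hY ξ) (rfl : A.base = A.base) t
    (by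
      show t ≫ r₁ ξ ≫ ψ = A.π ≫ 𝟙 _
      rw [Category.comp_id, ← Category.assoc, pullback.lift_fst, hκψ])
    (AlgGrp.Action.hom_ext_lift₂ fun T h p => by
      show lift h p ≫ A.act.act ≫ t = lift h p ≫ (H ◁ t) ≫ (redAct i aZ hY ξ).act
      rw [lift_whiskerLeft_assoc]
      apply pullback.hom_ext
      · rw [redAct_fst, Category.assoc, Category.assoc, pullback.lift_fst, ← Category.assoc, hκ]
        simp only [t, Category.assoc, pullback.lift_fst]
        rfl
      · rw [redAct_snd, Category.assoc, Category.assoc, pullback.lift_snd, ← Category.assoc, act_φ]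
        simp only [t, Category.assoc, pullback.lift_snd])
    (pullback.lift_snd _ _ _)
  refine ⟨ξ, rfl, e.symm, ?_⟩
  have := congrArg AlgSt.QuotObj.Hom.base e.inv_hom_id
  simp only [AlgSt.QuotObj.comp_base, he, AlgSt.QuotObj.id_base, eqToHom_refl] at this
  show e.inv.base = 𝟙 _
  exact (Category.comp_id _).symm.trans this

include hY in
/-- the quotient of the balanced product is the quotient of `Z` -/
theorem isQuotientOf : AlgSt.IsQuotientOf Scheme.fppfPrecoverage H aZ
    (AlgSt.QuotSt Scheme.fppfPrecoverage G aY) := by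
  have h : FibCat.IsEquivOver (red i aZ hY) :=
    FibCatRep.isEquivOver_of_fullyFaithful (red i aZ hY) fun A => by
      obtain ⟨ξ, h, e, he⟩ := exists_preimage i aZ hY A
      exact ⟨ξ, e, h, he⟩
  obtain ⟨e, e₁, e₂⟩ := h
  exact ⟨e, red i aZ hY, e₂, e₁⟩

end esssurj

end Groth.Agent.QuotBal

end
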