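import Mathlib
import Groth.Agent.QuotBal.Equiv

/-!
# `G/H × X` is the balanced product of `X` along `H ⟶ G`
-/

set_option autoImplicit false
set_option backward.isDefEq.respectTransparency false
set_option backward.isDefEq.respectTransparency.types false
universe u

noncomputable section

namespace Groth.Agent.QuotBal

open CategoryTheory CategoryTheory.Limits MonoidalCategory CartesianMonoidalCategory MonObj AlgebraicGeometry
open Groth.Agent

variable {S : Scheme.{u}} {G H X Q : Over S} [GrpObj G] [GrpObj H] (i : H ⟶ G) [IsMonHom i] [Mono i.left]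
  (aX : AlgGrp.Action G X) (aQ : AlgGrp.Action G Q) (q₀ : 𝟙_ (Over S) ⟶ Q)

/-- `(g, x) ↦ (g • q₀, g • x)` -/
def homogMap : G ⊗ X ⟶ Q ⊗ X := lift (fst G X ≫ aQ.orbitMap q₀) aX.act

lemma lift_homogMap {T : Over S} (g : T ⟶ G) (x : T ⟶ X) :
    lift g x ≫ homogMap aX aQ q₀ = lift (g ≫ aQ.orbitMap q₀) (lift g x ≫ aX.act) := by
  rw [homogMap, comp_lift, lift_fst_assoc]

theorem isBalProd_of_isHomog (hQ : ChGrp.IsHomog Scheme.fppfPrecoverage i aQ q₀) :
    ChGrp.IsBalProd Scheme.fppfPrecoverage i (aX.restrict i) (aQ.prod aX) (homogMap aX aQ q₀) := by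
  obtain ⟨-, sq, hloc⟩ := hQ
  haveI : Mono i := (Over.forget S).mono_of_mono_map (inferInstanceAs (Mono i.left))
  have orb : ∀ {T : Over S} (g : T ⟶ G) (h : T ⟶ H),
      (g * (h ≫ i)) ≫ aQ.orbitMap q₀ = g ≫ aQ.orbitMap q₀ := fun g h => by
    have := congr(lift g h ≫ $(sq.w))
    rw [lift_fst_assoc, Category.assoc, lift_whiskerLeft_assoc, ← Category.assoc, ← Hom.mul_def] at this
    exact this.symm
  have ex : ∀ (T : Over S) (e e' : T ⟶ G ⊗ X), e ≫ homogMap aX aQ q₀ = e' ≫ homogMap aX aQ q₀ →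
      ∃ h : T ⟶ H, lift h e' ≫ (ChGrp.twist i (aX.restrict i)).act = e := by
    intro T e e' hee
    rw [← lift_comp_fst_snd e, ← lift_comp_fst_snd e', lift_homogMap, lift_homogMap] at hee
    set g := e ≫ fst G X
    set g' := e' ≫ fst G X
    have h₁ : g ≫ aQ.orbitMap q₀ = g' ≫ aQ.orbitMap q₀ := by simpa using congr($hee ≫ fst Q X)
    have h₂ : lift g (e ≫ snd G X) ≫ aX.act = lift g' (e' ≫ snd G X) ≫ aX.act := by
      simpa using congr($hee ≫ snd Q X)
    let l := sq.lift g g' h₁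
    have l₁ : l ≫ fst G H = g := sq.lift_fst _ _ _
    have l₂ : g * ((l ≫ snd G H) ≫ i) = g' := by
      have := sq.lift_snd g g' h₁
      rw [show sq.lift g g' h₁ = lift g (l ≫ snd G H) from CartesianMonoidalCategory.hom_ext _ _ (l₁.trans (lift_fst _ _).symm) (lift_snd _ _).symm,
        lift_whiskerLeft_assoc,
        ← Hom.mul_def] at this
      exact this
    refine ⟨l ≫ snd G H, ?_⟩
    conv_rhs => rw [← lift_comp_fst_snd e]
    rw [← lift_comp_fst_snd e', ChGrp.lift_twist_act]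
    congr 1
    · rw [show e' ≫ fst G X = g' from rfl, ← l₂, mul_inv_cancel_right]
    · rw [AlgGrp.Action.lift_restrict_act]
      rw [← l₂, GrpAct.mul_smul] at h₂
      have := congrArg (fun z => lift g⁻¹ z ≫ aX.act) h₂
      simp only [← GrpAct.mul_smul, inv_mul_cancel, GrpAct.one_smul'] at this
      rw [← _root_.mul_assoc, inv_mul_cancel, _root_.one_mul] at this
      exact this.symm
  choose dv hdv using ex
  refine ⟨AlgGrp.Action.hom_ext_lift₂ fun T gg e => ?_, ⟨⟨?_⟩, ⟨PullbackCone.isLimitAux' _ fun c =>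
    ⟨lift (dv _ c.fst c.snd c.condition) c.snd, hdv _ _ _ c.condition, lift_snd _ _, fun {m} h₁ h₂ => ?_⟩⟩⟩,
    isLocallyTrivial_of_hasLocSec ?_⟩
  · rw [← lift_comp_fst_snd e, ← Category.assoc, AlgGrp.Action.lift_prod_act, AlgGrp.Action.lift_trivial_act,
      lift_whiskerLeft_assoc, lift_homogMap, lift_homogMap, AlgGrp.Action.lift_prod_act]
    congr 1
    · rw [AlgGrp.Action.comp_orbitMap, AlgGrp.Action.comp_orbitMap, ← GrpAct.mul_smul]
      rfl
    · rw [← GrpAct.mul_smul]
      rfl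
  · refine AlgGrp.Action.hom_ext_lift₂ fun T h e => ?_
    rw [← lift_comp_fst_snd e, ← Category.assoc, ChGrp.lift_twist_act, lift_snd_assoc, lift_homogMap, lift_homogMap,
      AlgGrp.Action.lift_restrict_act, ← GrpAct.mul_smul, inv_mul_cancel_right]
    congr 1
    have := orb ((e ≫ fst G X) * (h ≫ i)⁻¹) h
    rw [inv_mul_cancel_right] at this
    exact this.symm
  · change m ≫ (ChGrp.twist i (aX.restrict i)).act = c.fst at h₁
    change m ≫ snd H _ = c.snd at h₂
    have hm : m = lift (m ≫ fst _ _) c.snd := by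
      apply CartesianMonoidalCategory.hom_ext
      · exact (lift_fst _ _).symm
      · exact h₂.trans (lift_snd _ _).symm
    rw [hm] at h₁
    conv_lhs => rw [hm]
    congr 1
    have h₃ := h₁.trans (hdv _ _ _ c.condition).symm
    generalize dv _ c.fst c.snd c.condition = d at h₃ ⊢
    rw [← lift_comp_fst_snd c.snd, ChGrp.lift_twist_act, ChGrp.lift_twist_act] at h₃
    have h₄ := congr($h₃ ≫ fst G X)
    rw [lift_fst, lift_fst] at h₄
    exact (cancel_mono i).1 (inv_injective (mul_left_cancel h₄))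
  · have ho : CentralExt.HasLocSec (aQ.orbitMap q₀) := CentralExt.hasLocSec_of_isLocallyTrivial _ hloc
    intro T x
    obtain ⟨R, hR, hs⟩ := ho T (x ≫ fst Q X)
    refine ⟨R, hR, fun W f hf => ?_⟩
    obtain ⟨e, he⟩ := hs f hf
    refine ⟨lift e (lift e⁻¹ ((CentralExt.inc T f ≫ x) ≫ snd Q X) ≫ aX.act), ?_⟩
    rw [lift_homogMap, he, ← GrpAct.mul_smul, mul_inv_cancel, GrpAct.one_smul', ← Category.assoc, lift_comp_fst_snd]

end Groth.Agent.QuotBal

end
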